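import Groth.Agent.EGA4Alg4.QuasiReg

/-! Relations of a weakly regular sequence: Rees algebra and affine blow-up presentations. -/

set_option autoImplicit false
universe u

namespace Groth.Agent.RR50

open MvPolynomial RingTheory.Sequence

variable {A : Type u} [CommRing A]

/-- The ideal of trivial linear relations. -/
noncomputable def lin {n : ℕ} (f : Fin n → A) : Ideal (MvPolynomial (Fin n) A) :=
  Ideal.span {q | ∃ i j : Fin n, q = C (f i) * X j - C (f j) * X i}

theorem aeval_mul_left {ι : Type} {S : Type*} [CommRing S] [Algebra A S] (t : S) (v : ι → S) {n : ℕ}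
    {P : MvPolynomial ι A} (hP : P.IsHomogeneous n) :
    aeval (fun i => t * v i) P = t ^ n * aeval v P := by
  rw [P.as_sum, map_sum, map_sum, Finset.mul_sum]
  refine Finset.sum_congr rfl fun d hd => ?_
  have hdeg : d.degree = n := by
    have h := hP (mem_support_iff.mp hd)
    rwa [Finsupp.degree_eq_weight_one]
  simp only [aeval_monomial, mul_pow, Finsupp.prod, Finset.prod_mul_distrib, Finset.prod_pow_eq_pow_sum]
  rw [show ∑ i ∈ d.support, d i = n from hdeg]
  ring

theorem exists_split {c : ℕ} (g : Fin c → A) {n : ℕ} {x : A}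
    (hx : x ∈ Ideal.span (Set.range g) ^ (n + 1)) :
    ∃ K : Fin c → MvPolynomial (Fin c) A, (∀ i, (K i).IsHomogeneous n) ∧
      ∑ i, g i * eval g (K i) = x := by
  rw [pow_succ'] at hx
  refine Submodule.mul_induction_on hx ?_ ?_
  · intro a ha b hb
    obtain ⟨K, hK, rfl⟩ := (Ideal.mem_span_pow_iff_exists_isHomogeneous _ _).mp hb
    obtain ⟨r, rfl⟩ := Ideal.mem_span_range_iff_exists_fun.mp ha
    exact ⟨fun i => C (r i) * K, fun i => hK.C_mul _, by
      simp only [map_mul, eval_C, Finset.sum_mul]
      exact Finset.sum_congr rfl fun i _ => by ring⟩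
  · rintro x y ⟨K, hK, rfl⟩ ⟨K', hK', rfl⟩
    exact ⟨fun i => K i + K' i, fun i => (hK i).add (hK' i), by simp [mul_add, Finset.sum_add_distrib]⟩

theorem rename_mem_lin {c : ℕ} (f : Fin (c + 1) → A) {q : MvPolynomial (Fin c) A}
    (hq : q ∈ lin (fun i => f i.castSucc)) : rename Fin.castSucc q ∈ lin f := by
  induction hq using Submodule.span_induction with
  | mem x hx =>
    obtain ⟨i, j, rfl⟩ := hx
    exact Ideal.subset_span ⟨i.castSucc, j.castSucc, by simp⟩
  | zero => simp
  | add x y _ _ hx hy => rw [map_add]; exact add_mem hx hy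
  | smul r x _ hx => rw [smul_eq_mul, map_mul]; exact Ideal.mul_mem_left _ _ hx

theorem mem_lin_of_eval_eq_zero : ∀ (c : ℕ) (f : Fin c → A), IsWeaklyRegular A (List.ofFn f) →
    ∀ (n : ℕ) (P : MvPolynomial (Fin c) A), P.IsHomogeneous n → eval f P = 0 → P ∈ lin f := by
  intro c
  induction c with
  | zero =>
    intro f _ n P hP hev
    rw [P.eq_C_of_isEmpty] at hev ⊢
    rw [eval_C] at hev
    rw [hev, map_zero]
    exact zero_mem _
  | succ c ihc =>
    intro f hf
    classical
    have hf' := hf
    rw [List.ofFn_succ', List.concat_eq_append, isWeaklyRegular_append_iff,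
      isWeaklyRegular_singleton_iff] at hf'
    set g : Fin c → A := fun i => f i.castSucc with hgdef
    set a := f (Fin.last c) with hadef
    have hspan : Ideal.ofList (List.ofFn g) • (⊤ : Submodule A A) = Ideal.span (Set.range g) := by
      rw [smul_eq_mul, Ideal.mul_top]
      exact congrArg Ideal.span (Set.ext fun z => List.mem_ofFn)
    have ha : ∀ x, a * x ∈ Ideal.span (Set.range g) → x ∈ Ideal.span (Set.range g) := fun x hx => by
      rw [← hspan] at hx ⊢
      exact mem_of_isSMulRegular_quotient_of_smul_mem hf'.2 hx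
    have hg : CAlgX.IsQuasiRegular g := EGA4Alg4.isQuasiRegular_of_isWeaklyRegular c g hf'.1
    intro n
    induction n with
    | zero =>
      intro P hP hev
      obtain ⟨r, rfl⟩ : ∃ r, C r = P :=
        ⟨P.coeff 0, ((totalDegree_eq_zero_iff_eq_C).mp (Nat.le_zero.mp hP.totalDegree_le)).symm⟩
      rw [eval_C] at hev
      rw [hev, map_zero]
      exact zero_mem _
    | succ n ih =>
      intro P hP hev
      set l := Finsupp.single (Fin.last c) 1 with hldef
      set H := divMonomial P l
      have hH : H.IsHomogeneous n := EGA4Alg4.isHomogeneous_divMonomial_single _ hP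
      have hsplit := modMonomial_add_divMonomial P l
      set R := modMonomial P l
      have hRcoeff : ∀ e, R.coeff e = if l ≤ e then 0 else P.coeff e := fun e => by
        split_ifs with he
        · exact coeff_modMonomial_of_le _ he
        · exact coeff_modMonomial_of_not_le _ he
      have hR : R.IsHomogeneous (n + 1) := fun e he => hP (by
        rw [hRcoeff] at he
        split_ifs at he with hle
        · exact absurd rfl he
        · exact he)
      obtain ⟨G, hG⟩ : ∃ G : MvPolynomial (Fin c) A, rename Fin.castSucc G = R := by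
        refine exists_rename_eq_of_vars_subset_range R _ (Fin.castSucc_injective _) ?_
        intro i hi
        rw [Finset.mem_coe, mem_vars_iff_mem_support] at hi
        obtain ⟨e, he, hie⟩ := hi
        rw [mem_support_iff, hRcoeff] at he
        split_ifs at he with hle
        · exact absurd rfl he
        · rcases Fin.eq_castSucc_or_eq_last i with ⟨j, rfl⟩ | rfl
          · exact ⟨j, rfl⟩
          · exfalso
            apply hle
            rw [Finsupp.single_le_iff]
            exact Nat.one_le_iff_ne_zero.mpr (Finsupp.mem_support_iff.mp hie)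
      have hGh : G.IsHomogeneous (n + 1) :=
        (IsHomogeneous.rename_isHomogeneous_iff (Fin.castSucc_injective _)).mp (hG ▸ hR)
      have hmon : (monomial l (1 : A)) = X (Fin.last c) := rfl
      rw [hmon, ← hG] at hsplit
      have hev' : eval g G + a * eval f H = 0 := by
        rw [← hev, ← hsplit, map_add, map_mul, eval_X, eval_rename]
        rfl
      have hmem : eval f H ∈ Ideal.span (Set.range g) ^ (n + 1) := by
        refine EGA4Alg4.mem_pow_of_mul_mem g hg a ha _ _ ?_
        rw [eq_neg_of_add_eq_zero_right hev']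
        exact neg_mem (EGA4Alg4.eval_mem_span_pow g hGh)
      obtain ⟨K, hK, hKe⟩ := exists_split g hmem
      have h1 : H - ∑ i, C (g i) * rename Fin.castSucc (K i) ∈ lin f := by
        refine ih _ (hH.sub (IsHomogeneous.sum _ _ _ fun i _ => ((hK i).rename_isHomogeneous).C_mul _)) ?_
        simp only [map_sub, map_sum, map_mul, eval_C, eval_rename]
        rw [show f ∘ Fin.castSucc = g from rfl, hKe, sub_self]
      have h2 : rename Fin.castSucc (G + C a * ∑ i, X i * K i) ∈ lin f := by
        refine rename_mem_lin f (ihc g hf'.1 (n + 1) _ (hGh.add (IsHomogeneous.C_mul ?_ a)) ?_)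
        · exact IsHomogeneous.sum _ _ _ fun i _ => by
            simpa [add_comm] using (isHomogeneous_X A i).mul (hK i)
        · simp only [map_add, map_mul, eval_C, map_sum, eval_X, hKe, hev']
      have h3 : ∑ i, (C (g i) * X (Fin.last c) - C a * X i.castSucc) * rename Fin.castSucc (K i) ∈ lin f :=
        Ideal.sum_mem _ fun i _ => Ideal.mul_mem_right _ _
          (Ideal.subset_span ⟨i.castSucc, Fin.last c, rfl⟩)
      have : P = X (Fin.last c) * (H - ∑ i, C (g i) * rename Fin.castSucc (K i)) +
          rename Fin.castSucc (G + C a * ∑ i, X i * K i) +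
          ∑ i, (C (g i) * X (Fin.last c) - C a * X i.castSucc) * rename Fin.castSucc (K i) := by
        conv_lhs => rw [← hsplit]
        simp only [map_add, map_mul, map_sum, rename_C, rename_X, mul_sub, Finset.mul_sum, sub_mul,
          Finset.sum_sub_distrib, mul_assoc, mul_left_comm (X (Fin.last c)) (C _)]
        abel
      rw [this]
      exact add_mem (add_mem (Ideal.mul_mem_left _ _ h1) h2) h3

theorem rees_ker {n : ℕ} (a : Fin n → A) (ha : IsWeaklyRegular A (List.ofFn a)) :
    RingHom.ker (aeval (R := A) (fun i : Fin n => Polynomial.C (a i) * (Polynomial.X : Polynomial A))) =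
      lin a := by
  refine le_antisymm (fun P hP => ?_) (Ideal.span_le.mpr ?_)
  · rw [RingHom.mem_ker] at hP
    have key : ∀ k, aeval (fun i : Fin n => Polynomial.C (a i) * (Polynomial.X : Polynomial A))
        (homogeneousComponent k P) = Polynomial.C (eval a (homogeneousComponent k P)) * Polynomial.X ^ k := by
      intro k
      simp only [mul_comm (Polynomial.C _) Polynomial.X]
      rw [aeval_mul_left _ _ (homogeneousComponent_isHomogeneous k P), mul_comm]
      congr 1
      exact (aeval_algebraMap_apply (R := A) (B := Polynomial A) a _).trans (by rw [aeval_eq_eval]; rfl)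
    rw [← P.sum_homogeneousComponent, map_sum, Finset.sum_congr rfl fun k _ => key k] at hP
    rw [← P.sum_homogeneousComponent]
    refine Ideal.sum_mem _ fun k hk => mem_lin_of_eval_eq_zero n a ha k _
      (homogeneousComponent_isHomogeneous k P) ?_
    have := congrArg (fun p => Polynomial.coeff p k) hP
    simp only [Polynomial.finsetSum_coeff, Polynomial.coeff_C_mul_X_pow, Polynomial.coeff_zero,
      Finset.sum_ite_eq, if_pos hk] at this
    exact this
  · rintro _ ⟨i, j, rfl⟩
    simp only [SetLike.mem_coe, RingHom.mem_ker, map_sub, map_mul, aeval_C, aeval_X,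
      Polynomial.algebraMap_eq]
    ring

theorem blowup_ker {n : ℕ} (a : Fin (n + 1) → A) (ha : IsWeaklyRegular A (List.ofFn a))
    (S : Type u) [CommRing S] [Algebra A S] [IsLocalization.Away (a 0) S] (v : Fin n → S)
    (hv : ∀ i, algebraMap A S (a 0) * v i = algebraMap A S (a i.succ)) :
    RingHom.ker (aeval (R := A) v) =
      Ideal.span (Set.range fun i : Fin n => C (a 0) * X i - C (a i.succ)) := by
  have hu : IsUnit (algebraMap A S (a 0)) := IsLocalization.Away.algebraMap_isUnit (a 0)
  refine le_antisymm (fun P hP => ?_) (Ideal.span_le.mpr ?_)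
  · rw [RingHom.mem_ker] at hP
    have hreg : IsSMulRegular A (a 0) := by
      rw [List.ofFn_succ, isWeaklyRegular_cons_iff] at ha
      exact ha.1
    let N := P.totalDegree
    let Ph : MvPolynomial (Fin (n + 1)) A :=
      ∑ k ∈ Finset.range (N + 1), X 0 ^ (N - k) * rename Fin.succ (homogeneousComponent k P)
    have hPh : Ph.IsHomogeneous N := IsHomogeneous.sum _ _ _ fun k hk => by
      have := (((isHomogeneous_X A (0 : Fin (n + 1))).pow (N - k))).mul
        ((homogeneousComponent_isHomogeneous k P).rename_isHomogeneous (f := Fin.succ))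
      rw [Finset.mem_range] at hk
      rwa [show 1 * (N - k) + k = N by omega] at this
    have hS : algebraMap A S (eval a Ph) = 0 := by
      rw [← mul_zero (algebraMap A S (a 0) ^ N), ← hP]
      conv_rhs => rw [← P.sum_homogeneousComponent, map_sum, Finset.mul_sum]
      simp only [Ph, map_sum, map_mul, map_pow, eval_X, eval_rename]
      refine Finset.sum_congr rfl fun k hk => ?_
      rw [Finset.mem_range] at hk
      have h1 : algebraMap A S (eval (a ∘ Fin.succ) (homogeneousComponent k P)) =
          algebraMap A S (a 0) ^ k * aeval v (homogeneousComponent k P) := by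
        rw [← aeval_mul_left _ _ (homogeneousComponent_isHomogeneous k P), funext hv,
          ← aeval_eq_eval]
        exact (aeval_algebraMap_apply (B := S) (a ∘ Fin.succ) _).symm
      rw [h1, ← mul_assoc, ← pow_add, Nat.sub_add_cancel (by omega)]
    have hzero : eval a Ph = 0 := by
      obtain ⟨⟨_, k, rfl⟩, hk⟩ := (IsLocalization.map_eq_zero_iff (Submonoid.powers (a 0)) S _).mp hS
      exact (hreg.pow k) (by simpa using hk)
    have hlin := mem_lin_of_eval_eq_zero (n + 1) a ha N Ph hPh hzero
    let φ : MvPolynomial (Fin (n + 1)) A →ₐ[A] MvPolynomial (Fin n) A :=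
      aeval (Fin.cons 1 X : Fin (n + 1) → MvPolynomial (Fin n) A)
    have hφ : φ Ph = P := by
      simp only [Ph, φ, map_sum, map_mul, map_pow, aeval_X, Fin.cons_zero, one_pow, one_mul,
        aeval_rename]
      simp [Function.comp_def, P.sum_homogeneousComponent, N]
    rw [← hφ]
    set J := Ideal.span (Set.range fun i : Fin n => C (a 0) * X i - C (a i.succ))
    have hJ : ∀ i, C (a 0) * X i - C (a i.succ) ∈ J := fun i => Ideal.subset_span ⟨i, rfl⟩
    suffices lin a ≤ J.comap φ from this hlin
    refine Ideal.span_le.mpr ?_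
    rintro _ ⟨i, j, rfl⟩
    simp only [SetLike.mem_coe, Ideal.mem_comap, φ, map_sub, map_mul, aeval_C, aeval_X,
      MvPolynomial.algebraMap_eq]
    refine Fin.cases ?_ (fun i => ?_) i <;> refine Fin.cases ?_ (fun j => ?_) j
    · simp
    · simpa using hJ j
    · simpa using neg_mem (hJ i)
    · simp only [Fin.cons_succ]
      rw [show C (a i.succ) * X j - C (a j.succ) * X i =
        (C (a 0) * X j - C (a j.succ)) * X i - (C (a 0) * X i - C (a i.succ)) * X j by ring]
      exact sub_mem (J.mul_mem_right _ (hJ j)) (J.mul_mem_right _ (hJ i))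
  · rintro _ ⟨i, rfl⟩
    simp [hv]

theorem isQuasiRegular_of_span_eq {c : ℕ} (a b : Fin c → A) (ha : CAlgX.IsQuasiRegular a)
    (hab : Ideal.span (Set.range a) = Ideal.span (Set.range b)) : CAlgX.IsQuasiRegular b := by
  classical
  set I := Ideal.span (Set.range a) with hI
  have hM : ∀ j, ∃ r : Fin c → A, ∑ i, r i * a i = b j := fun j =>
    Ideal.mem_span_range_iff_exists_fun.mp (by rw [← hI, hab]; exact Ideal.subset_span ⟨j, rfl⟩)
  have hN : ∀ i, ∃ r : Fin c → A, ∑ j, r j * b j = a i := fun i =>
    Ideal.mem_span_range_iff_exists_fun.mp (hab ▸ Ideal.subset_span ⟨i, rfl⟩)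
  choose M hM using hM
  choose N hN using hN
  let π := Ideal.Quotient.mk I
  let M' : Matrix (Fin c) (Fin c) (A ⧸ I) := Matrix.of fun j i => π (M j i)
  let N' : Matrix (Fin c) (Fin c) (A ⧸ I) := Matrix.of fun i j => π (N i j)
  have hNM : N' * M' = 1 := by
    ext i k
    let P : MvPolynomial (Fin c) A := ∑ k, C ((∑ j, N i j * M j k) - if i = k then 1 else 0) * X k
    have hP : P.IsHomogeneous 1 := IsHomogeneous.sum _ _ _ fun k _ => (isHomogeneous_X A k).C_mul _
    have hev : eval a P = 0 := by
      simp only [P, map_sum, map_mul, eval_C, eval_X, sub_mul, Finset.sum_sub_distrib, ite_mul, one_mul,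
        zero_mul, Finset.sum_ite_eq, Finset.mem_univ, if_true, Finset.sum_mul]
      rw [Finset.sum_comm]
      simp only [mul_assoc, ← Finset.mul_sum, hM, hN, sub_self]
    have := ha 1 P hP (by rw [hev]; exact zero_mem _) (Finsupp.single k 1)
    have hc : P.coeff (Finsupp.single k 1) = (∑ j, N i j * M j k) - if i = k then 1 else 0 := by
      simp only [P, coeff_sum, coeff_C_mul, coeff_X, mul_ite, mul_one, mul_zero,
        Finsupp.single_left_inj one_ne_zero]
      simp [eq_comm]
    rw [hc, ← Ideal.Quotient.eq_zero_iff_mem, map_sub, sub_eq_zero] at this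
    simpa [Matrix.mul_apply, Matrix.one_apply, M', N', π, apply_ite π] using this
  have hMN : M' * N' = 1 := mul_eq_one_comm.mp hNM
  intro n P hP hev d
  rw [← hab] at hev ⊢
  let Q : MvPolynomial (Fin c) A := bind₁ (fun j => ∑ i, C (M j i) * X i) P
  have hQ : Q.IsHomogeneous n := by
    have h := hP.aeval (fun j => ∑ i, C (M j i) * X i : Fin c → MvPolynomial (Fin c) A)
      (fun j => IsHomogeneous.sum _ _ _ fun i _ => (isHomogeneous_X A i).C_mul (M j i))
    rw [one_mul] at h
    exact h
  have hQe : eval a Q = eval b P := by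
    have h : aeval a Q = aeval b P := by
      rw [show Q = bind₁ (fun j => ∑ i, C (M j i) * X i) P from rfl, aeval_bind₁, ← funext hM]
      simp only [map_sum, map_mul, aeval_C, aeval_X, Algebra.algebraMap_self, RingHom.id_apply]
    exact (congrFun (aeval_eq_eval a) Q).symm.trans (h.trans (congrFun (aeval_eq_eval b) P))
  have hQ0 : map π Q = 0 := by
    refine MvPolynomial.ext _ _ fun e => ?_
    rw [coeff_map, coeff_zero]
    exact Ideal.Quotient.eq_zero_iff_mem.mpr (ha n Q hQ (hQe ▸ hev) e)
  have h1 : map π P = bind₁ (fun i => ∑ k, C (N' i k) * X k) (map π Q) := by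
    simp only [Q, map_bind₁, bind₁_bind₁]
    conv_lhs => rw [← AlgHom.id_apply (R := A ⧸ I) (map π P), ← bind₁_X_left]
    refine congrArg (fun h => bind₁ h (map π P)) (funext fun j => ?_)
    simp only [map_sum, map_mul, map_C, map_X, bind₁_C_right, bind₁_X_right, Finset.mul_sum]
    rw [Finset.sum_comm]
    simp only [← mul_assoc, ← map_mul, ← Finset.sum_mul, ← map_sum]
    have : ∀ k, ∑ i, π (M j i) * N' i k = if j = k then 1 else 0 := fun k => by
      have := congrFun (congrFun hMN j) k
      simpa [Matrix.mul_apply, Matrix.one_apply, M'] using this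
    simp [this, ite_mul]
  rw [hQ0, map_zero] at h1
  exact Ideal.Quotient.eq_zero_iff_mem.mp (by rw [← coeff_map, h1, coeff_zero])

end Groth.Agent.RR50
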